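import Mathlib
import Groth.Agent.FlatLocus.Basic
import Groth.Agent.S2082
import Groth.Agent.SmoothDim.Basic

/-!
# Exchanging systems of parameters at a rational point
-/

set_option autoImplicit false
set_option backward.isDefEq.respectTransparency.types false
set_option linter.style.haveILetI false

universe u

open AlgebraicGeometry CategoryTheory

namespace Groth.Agent.EtDlChain

variable {k R : Type u} [Field k] [CommRing R] [Algebra k R] (χ : R →ₐ[k] k) {ι : Type u}

/-- The rational point of the functions `t`, translated to the origin, is isolated in its fibre from below. -/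
def Good (t : ι → R) : Prop :=
  ∀ P : Ideal R, P.IsPrime → P ≤ RingHom.ker χ →
    (∀ i, t i - algebraMap k R (χ (t i)) ∈ P) → P = RingHom.ker χ

theorem delta_mem (r : R) : r - algebraMap k R (χ r) ∈ RingHom.ker χ := by
  rw [RingHom.mem_ker, map_sub, AlgHom.commutes]
  simp

variable {χ}

/-- The primes one has to avoid when changing the `l`-th function. -/
theorem good_update [IsNoetherianRing R] [DecidableEq ι] {t : ι → R} (h : Good χ t) (l : ι) {z : R}
    (hz : z ∈ RingHom.ker χ)
    (hav : ∀ P ∈ (Ideal.span ((fun i => t i - algebraMap k R (χ (t i))) '' {i | i ≠ l})).minimalPrimes,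
      P ≤ RingHom.ker χ → P ≠ RingHom.ker χ → z ∉ P) :
    Good χ (Function.update t l z) := by
  intro P hP hPM hPt
  by_contra hne
  set δ : ι → R := fun i => t i - algebraMap k R (χ (t i)) with hδ
  set J := Ideal.span (δ '' {i | i ≠ l}) with hJ
  have hJP : J ≤ P := by
    rw [hJ, Ideal.span_le]
    rintro _ ⟨i, hi, rfl⟩
    have := hPt i
    rwa [Function.update_of_ne hi] at this
  have hzP : z ∈ P := by
    have := hPt l
    rw [Function.update_self, show χ z = 0 from hz, map_zero, sub_zero] at this
    exact this
  obtain ⟨Q, hQ, hQP⟩ := Ideal.exists_minimalPrimes_le hJP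
  have hQne : Q ≠ RingHom.ker χ := fun he => hne (le_antisymm hPM (he ▸ hQP))
  have hQPne : Q ≠ P := fun he => hav Q hQ (hQP.trans hPM) hQne (he ▸ hzP)
  haveI := hQ.1.1
  haveI : (RingHom.ker χ).IsPrime := RingHom.ker_isPrime χ
  let M := RingHom.ker χ
  let π := Ideal.Quotient.mk Q
  haveI : (M.map π).IsPrime := Ideal.map_isPrime_of_surjective Ideal.Quotient.mk_surjective
    (by rw [Ideal.mk_ker]; exact hQP.trans hPM)
  haveI : (P.map π).IsPrime := Ideal.map_isPrime_of_surjective Ideal.Quotient.mk_surjective
    (by rw [Ideal.mk_ker]; exact hQP)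
  have hmin : M.map π ∈ (Ideal.span {π (δ l)}).minimalPrimes := by
    refine ⟨⟨inferInstance, (Ideal.span_singleton_le_iff_mem _).2 (Ideal.mem_map_of_mem π (delta_mem χ _))⟩,
      fun q hq hqle => ?_⟩
    haveI := hq.1
    have hc : q.comap π = M := by
      refine h _ (Ideal.IsPrime.comap π) ?_ fun i => ?_
      · refine (Ideal.comap_mono hqle).trans ?_
        rw [Ideal.comap_map_of_surjective π Ideal.Quotient.mk_surjective, ← RingHom.ker_eq_comap_bot, Ideal.mk_ker]
        exact sup_le le_rfl (hQP.trans hPM)
      · by_cases hi : i = l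
        · subst hi
          exact hq.2 (Ideal.mem_span_singleton_self _)
        · have hmem : δ i ∈ Q := hQ.1.2 (Ideal.subset_span ⟨i, hi, rfl⟩)
          rw [Ideal.mem_comap, show π (δ i) = 0 from Ideal.Quotient.eq_zero_iff_mem.2 hmem]
          exact q.zero_mem
    rw [← hc, Ideal.map_comap_of_surjective π Ideal.Quotient.mk_surjective]
  have hle : (M.map π).height ≤ 1 := Ideal.height_le_one_of_isPrincipal_of_mem_minimalPrimes _ _ hmin
  have h1 : (⊥ : Ideal (R ⧸ Q)) < P.map π := by
    refine bot_lt_iff_ne_bot.2 fun he => hQPne ?_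
    rw [Ideal.map_eq_bot_iff_le_ker, Ideal.mk_ker] at he
    exact le_antisymm hQP he
  have h2 : P.map π < M.map π := by
    refine lt_of_le_of_ne (Ideal.map_mono hPM) fun he => hne ?_
    have := congrArg (Ideal.comap π) he
    rwa [Ideal.comap_map_of_surjective π Ideal.Quotient.mk_surjective, ← RingHom.ker_eq_comap_bot, Ideal.mk_ker,
      Ideal.comap_map_of_surjective π Ideal.Quotient.mk_surjective, ← RingHom.ker_eq_comap_bot, Ideal.mk_ker,
      sup_eq_left.2 hQP, sup_eq_left.2 (hQP.trans hPM)] at this
  have h3 := Ideal.height_strict_mono_of_isPrime h1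
  have h4 := Ideal.height_strict_mono_of_isPrime h2
  have h5 : (P.map π).height < 1 := h4.trans_le hle
  rw [ENat.lt_one_iff_eq_zero] at h5
  rw [h5] at h3
  exact not_lt_zero h3

theorem exists_common_update [IsNoetherianRing R] [DecidableEq ι] {t t' : ι → R} (h : Good χ t) (h' : Good χ t')
    (l : ι) : ∃ z, Good χ (Function.update t l z) ∧ Good χ (Function.update t' l z) := by
  classical
  let J : (ι → R) → Ideal R := fun s =>
    Ideal.span ((fun i => s i - algebraMap k R (χ (s i))) '' {i | i ≠ l})
  let B : Finset (Ideal R) := ((J t).finite_minimalPrimes_of_isNoetherianRing.toFinset ∪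
    (J t').finite_minimalPrimes_of_isNoetherianRing.toFinset).filter
      (fun P => P ≤ RingHom.ker χ ∧ P ≠ RingHom.ker χ)
  have hnot : ¬ ((RingHom.ker χ : Ideal R) : Set R) ⊆ ⋃ P ∈ (B : Set (Ideal R)), (P : Set R) := by
    intro hsub
    obtain ⟨P, hP, hle⟩ := (Ideal.subset_union_prime (f := id) ⊥ ⊥ (fun P hP _ _ => by
      obtain ⟨hP, -, -⟩ := Finset.mem_filter.1 hP
      rcases Finset.mem_union.1 hP with hP | hP <;> exact ((Set.Finite.mem_toFinset _).1 hP).1.1)).1 hsub
    exact (Finset.mem_filter.1 hP).2.2 (le_antisymm (Finset.mem_filter.1 hP).2.1 hle)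
  obtain ⟨z, hz, hzB⟩ := Set.not_subset.1 hnot
  simp only [Set.mem_iUnion, SetLike.mem_coe, not_exists] at hzB
  refine ⟨z, good_update h l hz fun P hP h1 h2 => hzB P (Finset.mem_filter.2 ⟨?_, h1, h2⟩),
    good_update h' l hz fun P hP h1 h2 => hzB P (Finset.mem_filter.2 ⟨?_, h1, h2⟩)⟩
  · exact Finset.mem_union_left _ ((Set.Finite.mem_toFinset _).2 hP)
  · exact Finset.mem_union_right _ ((Set.Finite.mem_toFinset _).2 hP)

/-- One exchange step. -/
def Step (χ : R →ₐ[k] k) (t t' : ι → R) : Prop :=
  Good χ t ∧ Good χ t' ∧ ∃ i, ∀ i', i' ≠ i → t i' = t' i'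

theorem Step.symm {t t' : ι → R} (h : Step χ t t') : Step χ t' t :=
  ⟨h.2.1, h.1, h.2.2.choose, fun i hi => (h.2.2.choose_spec i hi).symm⟩

theorem reach [IsNoetherianRing R] [Finite ι] {t t' : ι → R} (h : Good χ t) (h' : Good χ t') :
    Relation.ReflTransGen (Step χ) t t' := by
  classical
  haveI := Fintype.ofFinite ι
  suffices H : ∀ (s : Finset ι) (t t' : ι → R), Good χ t → Good χ t' → (∀ i ∉ s, t i = t' i) →
      Relation.ReflTransGen (Step χ) t t' from H Finset.univ t t' h h' fun i hi => absurd (Finset.mem_univ i) hi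
  intro s
  induction s using Finset.induction_on with
  | empty =>
    intro t t' _ _ he
    rw [show t = t' from funext fun i => he i (Finset.notMem_empty i)]
  | @insert l s hl ih =>
    intro t t' ht ht' he
    obtain ⟨z, hz, hz'⟩ := exists_common_update ht ht' l
    have h1 : Step χ t (Function.update t l z) :=
      ⟨ht, hz, l, fun i hi => (Function.update_of_ne hi _ _).symm⟩
    have h2 : Step χ t' (Function.update t' l z) :=
      ⟨ht', hz', l, fun i hi => (Function.update_of_ne hi _ _).symm⟩
    refine ((Relation.ReflTransGen.single h1).trans (ih _ _ hz hz' fun i hi => ?_)).tail h2.symm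
    by_cases hil : i = l
    · subst hil; rw [Function.update_self, Function.update_self]
    · rw [Function.update_of_ne hil, Function.update_of_ne hil]
      exact he i (by simp [hil, hi])

theorem exists_chain [IsNoetherianRing R] [Finite ι] {t t' : ι → R} (h : Good χ t) (h' : Good χ t') :
    ∃ (m : ℕ) (w : Fin (m + 1) → ι → R), w 0 = t ∧ w (Fin.last m) = t' ∧ (∀ j, Good χ (w j)) ∧
      ∀ j : Fin m, ∃ i : ι, ∀ i', i' ≠ i → w j.castSucc i' = w j.succ i' := by
  induction reach h h' using Relation.ReflTransGen.head_induction_on with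
  | refl => exact ⟨0, fun _ => t', rfl, rfl, fun _ => h', fun j => j.elim0⟩
  | @head a b hab _ ih =>
    obtain ⟨m, w, h0, hl, hg, hs⟩ := ih hab.2.1
    refine ⟨m + 1, Fin.cons a w, rfl, by rw [← Fin.succ_last, Fin.cons_succ]; exact hl,
      fun j => Fin.cases hab.1 (fun j => by rw [Fin.cons_succ]; exact hg j) j, fun j => ?_⟩
    induction j using Fin.cases with
    | zero =>
      obtain ⟨i, hi⟩ := hab.2.2
      refine ⟨i, fun i' hi' => ?_⟩
      rw [Fin.cons_succ, h0]
      exact hi i' hi'
    | succ j =>
      obtain ⟨i, hi⟩ := hs j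
      refine ⟨i, fun i' hi' => ?_⟩
      rw [← Fin.succ_castSucc, Fin.cons_succ, Fin.cons_succ]
      exact hi i' hi'

theorem height_maximal [Finite ι] (N : Ideal (MvPolynomial ι k)) [hN : N.IsMaximal] : N.height = Nat.card ι := by
  let e := (MvPolynomial.renameEquiv k (Finite.equivFin ι)).symm.toRingEquiv
  haveI : (N.comap e).IsMaximal := Ideal.comap_isMaximal_of_equiv e
  have h := SmoothDim.height_maximal_mvPolynomial k (Nat.card ι) ⟨N.comap e, inferInstance⟩ inferInstance
  rw [← PrimeSpectrum.height_eq_orderHeight] at h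
  rw [← h]
  exact (RingEquiv.height_comap e N).symm

/-- At a good point the morphism given by the functions is quasi-finite and flat. -/
theorem qf_flat [Algebra.FiniteType k R] [Finite ι] {t : ι → R} (h : Good χ t) (M : Ideal R) [M.IsMaximal]
    (hM : M = RingHom.ker χ) [LocCoh.IsCohenMacaulayLocalRing (Localization.AtPrime M)]
    (hdim : M.height = Nat.card ι) :
    let f := Spec.map (CommRingCat.ofHom (MvPolynomial.aeval (R := k) t).toRingHom)
    let x : ↥(Spec (CommRingCat.of R)) := ⟨M, inferInstance⟩
    f.QuasiFiniteAt x ∧ (f.stalkMap x).hom.Flat := by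
  intro f x
  classical
  let φ : MvPolynomial ι k →ₐ[k] R := MvPolynomial.aeval t
  letI : Algebra (MvPolynomial ι k) R := φ.toRingHom.toAlgebra
  haveI : IsScalarTower k (MvPolynomial ι k) R := IsScalarTower.of_algebraMap_eq fun c => (φ.commutes c).symm
  haveI : IsNoetherianRing R := Algebra.FiniteType.isNoetherianRing k R
  haveI : LocallyOfFiniteType f := by
    rw [HasRingHomProperty.Spec_iff (P := @LocallyOfFiniteType)]
    exact (Algebra.FiniteType.of_restrictScalars_finiteType k (MvPolynomial ι k) R :
      Algebra.FiniteType (MvPolynomial ι k) R)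
  let N : Ideal (MvPolynomial ι k) := M.comap (algebraMap (MvPolynomial ι k) R)
  haveI : N.IsMaximal := by
    have hN : N = RingHom.ker (χ.comp φ) := by
      ext p; rw [Ideal.mem_comap, hM, RingHom.mem_ker, RingHom.mem_ker]; rfl
    rw [hN]
    exact RingHom.ker_isMaximal_of_surjective _ fun c => ⟨algebraMap k _ c, AlgHom.commutes _ c⟩
  have hiso : ∀ P : Ideal R, P.IsPrime → P ≤ M → N.map (algebraMap (MvPolynomial ι k) R) ≤ P → P = M := by
    intro P hP hle hNP
    rw [hM] at hle ⊢
    refine h P hP hle fun i => hNP ?_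
    have hmem : MvPolynomial.X i - MvPolynomial.C (χ (t i)) ∈ N := by
      rw [Ideal.mem_comap, hM, show algebraMap (MvPolynomial ι k) R (MvPolynomial.X i - MvPolynomial.C (χ (t i))) =
        t i - algebraMap k R (χ (t i)) by
          show φ (MvPolynomial.X i - MvPolynomial.C (χ (t i))) = _
          simp [φ]]
      exact delta_mem χ _
    have := Ideal.mem_map_of_mem (algebraMap (MvPolynomial ι k) R) hmem
    rwa [show algebraMap (MvPolynomial ι k) R (MvPolynomial.X i - MvPolynomial.C (χ (t i))) =
        t i - algebraMap k R (χ (t i)) by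
          show φ (MvPolynomial.X i - MvPolynomial.C (χ (t i))) = _
          simp [φ]] at this
  constructor
  · rw [Scheme.Hom.quasiFiniteAt_iff_isOpen_singleton_asFiber]
    let J := N.map (algebraMap (MvPolynomial ι k) R)
    let S := J.finite_minimalPrimes_of_isNoetherianRing.toFinset.filter (fun P => P ≠ M)
    have hg : ∃ g : R, g ∉ M ∧ ∀ P ∈ S, g ∈ P := by
      have hne : ∀ P ∈ S, ∃ g ∈ P, g ∉ M := fun P hP => by
        obtain ⟨hP1, hP2⟩ := Finset.mem_filter.1 hP
        by_contra hc
        push_neg at hc
        have hmin := (Set.Finite.mem_toFinset _).1 hP1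
        exact hP2 (hiso P hmin.1.1 hc hmin.1.2)
      choose! g hg1 hg2 using hne
      refine ⟨∏ P ∈ S, g P, fun hmem => ?_, fun P hP => Ideal.mem_of_dvd P (Finset.dvd_prod_of_mem g hP) (hg1 P hP)⟩
      obtain ⟨P, hP, hPm⟩ := (Ideal.IsPrime.prod_mem_iff (p := M)).1 hmem
      exact hg2 P hP hPm
    obtain ⟨g, hgM, hgS⟩ := hg
    rw [(f.fiberι (f x)).isEmbedding.isInducing.isOpen_iff]
    refine ⟨(PrimeSpectrum.basicOpen g : Set (PrimeSpectrum R)), (PrimeSpectrum.basicOpen g).2, Set.ext fun z => ?_⟩
    have hz : f (f.fiberι (f x) z) = f x := by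
      have : f.fiberι (f x) z ∈ Set.range (f.fiberι (f x)) := ⟨z, rfl⟩
      rwa [Scheme.Hom.range_fiberι] at this
    rw [Set.mem_preimage, Set.mem_singleton_iff]
    refine ⟨fun hmem => ?_, fun he => ?_⟩
    · refine (f.fiberι (f x)).isEmbedding.injective ?_
      rw [Scheme.Hom.fiberι_asFiber]
      set q : PrimeSpectrum R := f.fiberι (f x) z with hq
      have hJq : J ≤ q.asIdeal := Ideal.map_le_iff_le_comap.2 (congrArg PrimeSpectrum.asIdeal hz).ge
      obtain ⟨P, hP, hPq⟩ := Ideal.exists_minimalPrimes_le hJq
      have hPM : P = M := by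
        by_contra hc
        exact hmem (hPq (hgS P (Finset.mem_filter.2 ⟨(Set.Finite.mem_toFinset _).2 hP, hc⟩)))
      subst hPM
      exact PrimeSpectrum.ext ((Ideal.IsMaximal.eq_of_le inferInstance q.isPrime.ne_top hPq).symm)
    · rw [he, Scheme.Hom.fiberι_asFiber]
      exact hgM
  · rw [FlatLocus.stalkMap_flat_SpecMap]
    let A := Localization.AtPrime N
    let B := Localization.AtPrime M
    letI : Algebra A B := (Localization.localRingHom N M (algebraMap _ R) rfl).toAlgebra
    haveI : IsLocalHom (algebraMap A B) := Localization.isLocalHom_localRingHom N M _ rfl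
    haveI : IsScalarTower (MvPolynomial ι k) A B := IsScalarTower.of_algebraMap_eq fun p => by
      show algebraMap (MvPolynomial ι k) B p = Localization.localRingHom N M _ rfl (algebraMap _ A p)
      rw [Localization.localRingHom_to_map]
      exact IsScalarTower.algebraMap_apply (MvPolynomial ι k) R B p
    haveI : IsRegularLocalRing A := inferInstance
    have hB : ringKrullDim (B ⧸ (IsLocalRing.maximalIdeal A).map (algebraMap A B)) = 0 := by
      have hle : (IsLocalRing.maximalIdeal A).map (algebraMap A B) ≤ IsLocalRing.maximalIdeal B :=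
        IsLocalRing.map_maximalIdeal_le _
      haveI : Nontrivial (B ⧸ (IsLocalRing.maximalIdeal A).map (algebraMap A B)) :=
        Ideal.Quotient.nontrivial_iff.2 (ne_top_of_le_ne_top Ideal.IsPrime.ne_top' hle)
      haveI : Ring.KrullDimLE 0 (B ⧸ (IsLocalRing.maximalIdeal A).map (algebraMap A B)) := by
        refine Ring.KrullDimLE.mk₀ fun q hq => ?_
        let qB := q.comap (Ideal.Quotient.mk ((IsLocalRing.maximalIdeal A).map (algebraMap A B)))
        haveI : qB.IsPrime := Ideal.IsPrime.comap _
        let P := qB.comap (algebraMap R B)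
        have hP : P = M := by
          refine hiso P (Ideal.IsPrime.comap _) ?_ ?_
          · exact (Ideal.comap_mono (IsLocalRing.le_maximalIdeal Ideal.IsPrime.ne_top')).trans_eq
              (IsLocalization.AtPrime.comap_maximalIdeal B M)
          · rw [Ideal.map_le_iff_le_comap]
            intro p hp
            show Ideal.Quotient.mk _ (algebraMap R B (algebraMap (MvPolynomial ι k) R p)) ∈ q
            rw [← IsScalarTower.algebraMap_apply,
              IsScalarTower.algebraMap_apply (MvPolynomial ι k) A B]
            have : Ideal.Quotient.mk ((IsLocalRing.maximalIdeal A).map (algebraMap A B))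
                (algebraMap A B (algebraMap _ A p)) = 0 := Ideal.Quotient.eq_zero_iff_mem.2
              (Ideal.mem_map_of_mem _ ((IsLocalization.AtPrime.to_map_mem_maximal_iff A N p).2 hp))
            rw [this]
            exact q.zero_mem
        have hqB : qB = IsLocalRing.maximalIdeal B := by
          exact (IsLocalization.map_comap M.primeCompl B qB).symm.trans
            ((congrArg (Ideal.map (algebraMap R B)) hP).trans (IsLocalization.AtPrime.map_eq_maximalIdeal M B))
        have : q = (IsLocalRing.maximalIdeal B).map (Ideal.Quotient.mk _) := by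
          rw [← hqB, Ideal.map_comap_of_surjective _ Ideal.Quotient.mk_surjective]
        rw [this]
        refine Ideal.map_eq_top_or_isMaximal_of_surjective _ Ideal.Quotient.mk_surjective
          (IsLocalRing.maximalIdeal.isMaximal B) |>.resolve_left ?_
        rw [← this]
        exact hq.ne_top
      exact ringKrullDimZero_iff_ringKrullDim_eq_zero.1 inferInstance
    have hflat : Module.Flat A B := S2082.result (by
      rw [IsLocalization.AtPrime.ringKrullDim_eq_height M B, IsLocalization.AtPrime.ringKrullDim_eq_height N A,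
        hdim, height_maximal N, hB, add_zero])
    haveI : Module.Flat (MvPolynomial ι k) B := (Module.flat_iff_of_isLocalization A N.primeCompl B).1 hflat
    exact Module.Flat.of_linearEquiv
      ((IsLocalizedModule.iso M.primeCompl (Algebra.linearMap R B)).restrictScalars (MvPolynomial ι k))

/-- A flat quasi-finite rational point gives a good tuple, and computes the dimension. -/
theorem good_of_qf_flat [Algebra.FiniteType k R] [Finite ι] {t : ι → R} (M : Ideal R) [M.IsMaximal]
    (hM : M = RingHom.ker χ)
    (hq : (MvPolynomial.aeval (R := k) t).toRingHom.QuasiFiniteAt M)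
    (hf : (MvPolynomial.aeval (R := k) t).toRingHom.Flat) :
    Good χ t ∧ M.height = Nat.card ι := by
  classical
  let φ : MvPolynomial ι k →ₐ[k] R := MvPolynomial.aeval t
  letI : Algebra (MvPolynomial ι k) R := φ.toRingHom.toAlgebra
  haveI : IsScalarTower k (MvPolynomial ι k) R := IsScalarTower.of_algebraMap_eq fun c => (φ.commutes c).symm
  haveI : IsNoetherianRing R := Algebra.FiniteType.isNoetherianRing k R
  haveI : Algebra.QuasiFiniteAt (MvPolynomial ι k) M := hq
  haveI : Module.Flat (MvPolynomial ι k) R := hf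
  let N : Ideal (MvPolynomial ι k) := M.comap (algebraMap (MvPolynomial ι k) R)
  have hN : N = RingHom.ker (χ.comp φ) := by
    ext p; rw [Ideal.mem_comap, hM, RingHom.mem_ker, RingHom.mem_ker]; rfl
  haveI : N.IsMaximal := hN ▸
    RingHom.ker_isMaximal_of_surjective _ fun c => ⟨algebraMap k _ c, AlgHom.commutes _ c⟩
  haveI : M.LiesOver N := ⟨rfl⟩
  refine ⟨fun P hP hle ht => ?_, ?_⟩
  · haveI := hP
    have hle' : P ≤ M := hM ▸ hle
    rw [← hM]
    refine Algebra.QuasiFiniteAt.eq_of_le_of_under_eq (R := MvPolynomial ι k) hle' ?_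
    refine le_antisymm (Ideal.comap_mono hle') fun p hp => ?_
    have hp0 : χ (φ p) = 0 := by
      have : φ p ∈ M := hp
      rwa [hM] at this
    show φ p ∈ P
    have key : ∀ p : MvPolynomial ι k, φ p - algebraMap k R (χ (φ p)) ∈ P := fun p => by
      induction p using MvPolynomial.induction_on with
      | C a => simp [φ]
      | add p q hp hq => rw [map_add, map_add, map_add, add_sub_add_comm]; exact add_mem hp hq
      | mul_X p i hp =>
        rw [map_mul, map_mul, map_mul, show φ (MvPolynomial.X i) = t i from MvPolynomial.aeval_X _ _,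
          show φ p * t i - algebraMap k R (χ (φ p)) * algebraMap k R (χ (t i)) =
            (φ p - algebraMap k R (χ (φ p))) * t i + algebraMap k R (χ (φ p)) * (t i - algebraMap k R (χ (t i))) by
              ring]
        exact add_mem (Ideal.mul_mem_right _ _ hp) (Ideal.mul_mem_left _ _ (ht i))
    have := key p
    rwa [hp0, map_zero, sub_zero] at this
  · haveI : Algebra.HasGoingDown (MvPolynomial ι k) R := inferInstance
    rw [Ideal.height_eq_height_add_of_liesOver_of_hasGoingDown N M, height_maximal N]
    haveI : (M.map (Ideal.Quotient.mk (N.map (algebraMap _ R)))).IsPrime :=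
      Ideal.map_isPrime_of_surjective Ideal.Quotient.mk_surjective
        (by rw [Ideal.mk_ker]; exact Ideal.map_le_iff_le_comap.2 le_rfl)
    rw [show (M.map (Ideal.Quotient.mk (N.map (algebraMap _ R)))).height = 0 from ?_, add_zero]
    rw [Ideal.height_eq_zero_iff]
    refine ⟨⟨inferInstance, bot_le⟩, fun q hq hqle => ?_⟩
    haveI := hq.1
    let P := q.comap (Ideal.Quotient.mk (N.map (algebraMap _ R)))
    haveI : P.IsPrime := Ideal.IsPrime.comap _
    have hPM : P ≤ M := by
      refine (Ideal.comap_mono hqle).trans ?_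
      rw [Ideal.comap_map_of_surjective _ Ideal.Quotient.mk_surjective, ← RingHom.ker_eq_comap_bot, Ideal.mk_ker]
      exact sup_le le_rfl (Ideal.map_le_iff_le_comap.2 le_rfl)
    have hP : P = M := by
      refine Algebra.QuasiFiniteAt.eq_of_le_of_under_eq (R := MvPolynomial ι k) hPM ?_
      refine le_antisymm (Ideal.comap_mono hPM) fun p hp => ?_
      show Ideal.Quotient.mk _ (algebraMap _ R p) ∈ q
      rw [Ideal.Quotient.eq_zero_iff_mem.2 (Ideal.mem_map_of_mem _ hp)]
      exact q.zero_mem
    rw [← hP, Ideal.map_comap_of_surjective _ Ideal.Quotient.mk_surjective]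

end Groth.Agent.EtDlChain
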