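import Groth.Agent.EtDlChain.Basic
import Groth.Agent.LC.LiaisonLocal

/-!
# Chains of quasi-finite flat maps to affine space
-/

set_option autoImplicit false
set_option backward.isDefEq.respectTransparency.types false
set_option linter.style.haveILetI false

universe u

open AlgebraicGeometry CategoryTheory

noncomputable section

namespace Groth.Agent.EtDlChain

variable {k R : Type u} [Field k] [CommRing R] [Algebra k R] {ι : Type u}

/-- The morphism to affine space with given coordinates. -/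
def mor (t : ι → R) : Spec (CommRingCat.of R) ⟶ AffineSpace ι (Spec (CommRingCat.of k)) :=
  Spec.map (CommRingCat.ofHom (MvPolynomial.aeval (R := k) t).toRingHom) ≫
    (AffineSpace.SpecIso ι (CommRingCat.of k)).inv

theorem mor_over (t : ι → R) : mor (k := k) t ≫ (AffineSpace ι (Spec (CommRingCat.of k)) ↘ Spec (CommRingCat.of k)) =
    Spec.map (CommRingCat.ofHom (algebraMap k R)) := by
  rw [mor, Category.assoc, AffineSpace.SpecIso_inv_over, ← Spec.map_comp]
  congr 1
  ext c
  exact (MvPolynomial.aeval (R := k) t).commutes c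

theorem mor_coord (t : ι → R) (i : ι) :
    (mor (k := k) t).appTop (AffineSpace.coord (Spec (CommRingCat.of k)) i) =
      (Scheme.ΓSpecIso (CommRingCat.of R)).inv (t i) := by
  rw [mor, Scheme.Hom.comp_appTop, CommRingCat.comp_apply, AffineSpace.SpecIso_inv_appTop_coord,
    ← CommRingCat.comp_apply, ← Scheme.ΓSpecIso_inv_naturality, CommRingCat.comp_apply]
  exact congrArg _ (MvPolynomial.aeval_X _ _)

theorem eq_mor (g : Spec (CommRingCat.of R) ⟶ AffineSpace ι (Spec (CommRingCat.of k)))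
    (hg : g ≫ (AffineSpace ι (Spec (CommRingCat.of k)) ↘ Spec (CommRingCat.of k)) =
      Spec.map (CommRingCat.ofHom (algebraMap k R))) :
    g = mor (k := k) fun i =>
      (Scheme.ΓSpecIso (CommRingCat.of R)).hom (g.appTop (AffineSpace.coord (Spec (CommRingCat.of k)) i)) := by
  refine AffineSpace.hom_ext (by rw [hg, mor_over]) fun i => ?_
  rw [mor_coord, ← CommRingCat.comp_apply, Iso.hom_inv_id]
  rfl

theorem good_of_mor [Algebra.FiniteType k R] [Finite ι] (χ : R →ₐ[k] k) (M : Ideal R) [M.IsMaximal]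
    (hM : M = RingHom.ker χ) (t : ι → R) [LocallyQuasiFinite (mor (k := k) t)] [Flat (mor (k := k) t)] :
    Good χ t ∧ M.height = Nat.card ι := by
  have e : mor (k := k) t ≫ (AffineSpace.SpecIso ι (CommRingCat.of k)).hom =
      Spec.map (CommRingCat.ofHom (MvPolynomial.aeval (R := k) t).toRingHom) := by
    rw [mor, Category.assoc, Iso.inv_hom_id, Category.comp_id]
  have h1 : LocallyQuasiFinite (Spec.map (CommRingCat.ofHom (MvPolynomial.aeval (R := k) t).toRingHom)) :=
    e ▸ inferInstance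
  have h2 : Flat (Spec.map (CommRingCat.ofHom (MvPolynomial.aeval (R := k) t).toRingHom)) := e ▸ inferInstance
  rw [HasRingHomProperty.Spec_iff (P := @LocallyQuasiFinite)] at h1
  rw [HasRingHomProperty.Spec_iff (P := @Flat)] at h2
  refine good_of_qf_flat M hM ?_ h2
  letI : Algebra (MvPolynomial ι k) R := (MvPolynomial.aeval (R := k) t).toRingHom.toAlgebra
  haveI : Algebra.QuasiFinite (MvPolynomial ι k) R := h1
  exact Algebra.QuasiFinite.of_isLocalization M.primeCompl

theorem isOpen_good_locus [Algebra.FiniteType k R] [Finite ι] (t : ι → R) :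
    IsOpen {q : ↥(Spec (CommRingCat.of R)) | (mor (k := k) t).QuasiFiniteAt q ∧
      ((mor (k := k) t).stalkMap q).hom.Flat} := by
  haveI : IsNoetherianRing R := Algebra.FiniteType.isNoetherianRing k R
  haveI : LocallyOfFinitePresentation (mor (k := k) t) := by
    haveI : LocallyOfFinitePresentation (Spec.map (CommRingCat.ofHom (MvPolynomial.aeval (R := k) t).toRingHom)) := by
      rw [HasRingHomProperty.Spec_iff (P := @LocallyOfFinitePresentation)]
      letI : Algebra (MvPolynomial ι k) R := (MvPolynomial.aeval (R := k) t).toRingHom.toAlgebra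
      haveI : IsScalarTower k (MvPolynomial ι k) R :=
        IsScalarTower.of_algebraMap_eq fun c => ((MvPolynomial.aeval (R := k) t).commutes c).symm
      haveI : Algebra.FiniteType (MvPolynomial ι k) R :=
        Algebra.FiniteType.of_restrictScalars_finiteType k (MvPolynomial ι k) R
      exact (Algebra.FinitePresentation.of_finiteType.1 inferInstance :
        Algebra.FinitePresentation (MvPolynomial ι k) R)
    rw [mor]
    infer_instance
  exact (mor (k := k) t).isOpen_quasiFiniteAt.inter (FlatLocus.isOpen_flat_locus _)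

theorem qf_flat_mor [Algebra.FiniteType k R] [Finite ι] {χ : R →ₐ[k] k} {t : ι → R} (h : Good χ t) (M : Ideal R)
    [M.IsMaximal] (hM : M = RingHom.ker χ) [LocCoh.IsCohenMacaulayLocalRing (Localization.AtPrime M)]
    (hdim : M.height = Nat.card ι) :
    let x : ↥(Spec (CommRingCat.of R)) := ⟨M, inferInstance⟩
    (mor (k := k) t).QuasiFiniteAt x ∧ ((mor (k := k) t).stalkMap x).hom.Flat := by
  intro x
  obtain ⟨h1, h2⟩ := qf_flat h M hM hdim
  refine ⟨?_, ?_⟩
  · rw [mor, Scheme.Hom.quasiFiniteAt_comp_iff]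
    exact h1
  · rw [mor, Scheme.Hom.stalkMap_comp]
    haveI hopen : IsOpenImmersion (AffineSpace.SpecIso ι (CommRingCat.of k)).inv := inferInstance
    have hiso : ∀ z, IsIso ((AffineSpace.SpecIso ι (CommRingCat.of k)).inv.stalkMap z) := fun z => inferInstance
    exact (@FlatLocus.flat_isIso_comp _ _ _ _ (hiso _) _).2 h2

theorem exists_chain_scheme [IsAlgClosed k] (X : Scheme.{u}) (str : X ⟶ Spec (CommRingCat.of k))
    [LocallyOfFiniteType str]
    (hCM : ∀ y : X, LocCoh.IsCohenMacaulayLocalRing (X.presheaf.stalk y)) [Finite ι]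
    (u v : X ⟶ AffineSpace ι (Spec (CommRingCat.of k)))
    (hu : u ≫ (AffineSpace ι (Spec (CommRingCat.of k)) ↘ Spec (CommRingCat.of k)) = str)
    (hv : v ≫ (AffineSpace ι (Spec (CommRingCat.of k)) ↘ Spec (CommRingCat.of k)) = str)
    [LocallyQuasiFinite u] [Flat u] [LocallyQuasiFinite v] [Flat v] (x : X) (hx : IsClosed ({x} : Set X)) :
    ∃ (U : X.Opens), x ∈ U ∧ ∃ (m : ℕ) (w : Fin (m + 1) → ((U : Scheme.{u}) ⟶ AffineSpace ι (Spec (CommRingCat.of k)))),
      w 0 = U.ι ≫ u ∧ w (Fin.last m) = U.ι ≫ v ∧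
      (∀ j : Fin (m + 1), LocallyQuasiFinite (w j) ∧ Flat (w j) ∧
        w j ≫ (AffineSpace ι (Spec (CommRingCat.of k)) ↘ Spec (CommRingCat.of k)) = U.ι ≫ str) ∧
      (∀ j : Fin m, ∃ i : ι, ∀ i' : ι, i' ≠ i →
        (w j.castSucc).appTop (AffineSpace.coord (Spec (CommRingCat.of k)) i') =
          (w j.succ).appTop (AffineSpace.coord (Spec (CommRingCat.of k)) i')) := by
  obtain ⟨V, hV, hxV, -⟩ := exists_isAffineOpen_mem_and_subset (U := (⊤ : X.Opens)) (x := x) trivial
  let R := Γ(X, V)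
  let ψ : CommRingCat.of k ⟶ R := Spec.preimage (hV.fromSpec ≫ str)
  letI : Algebra k R := ψ.hom.toAlgebra
  have hψ : Spec.map (CommRingCat.ofHom (algebraMap k R)) = hV.fromSpec ≫ str := Spec.map_preimage _
  haveI : Algebra.FiniteType k R := by
    haveI : LocallyOfFiniteType (Spec.map ψ) := by rw [Spec.map_preimage]; infer_instance
    exact (HasRingHomProperty.Spec_iff (P := @LocallyOfFiniteType)).1 this
  haveI : IsNoetherianRing R := Algebra.FiniteType.isNoetherianRing k R
  obtain ⟨q, hq⟩ : x ∈ Set.range hV.fromSpec := by rw [hV.range_fromSpec]; exact hxV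
  let M : Ideal R := q.asIdeal
  haveI hMmax : M.IsMaximal := by
    refine (PrimeSpectrum.isClosed_singleton_iff_isMaximal q).1 ?_
    have : ({q} : Set ↥(Spec R)) = hV.fromSpec ⁻¹' {x} := by
      rw [← hq, ← Set.image_singleton, Set.preimage_image_eq _ hV.fromSpec.isOpenEmbedding.injective]
    show IsClosed ({q} : Set ↥(Spec R))
    rw [this]
    exact hx.preimage hV.fromSpec.continuous
  letI := Ideal.Quotient.field M
  haveI : Module.Finite k (R ⧸ M) := finite_of_finite_type_of_isJacobsonRing k (R ⧸ M)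
  have hbij : Function.Bijective (algebraMap k (R ⧸ M)) :=
    IsAlgClosed.algebraMap_bijective_of_isIntegral
  let χ : R →ₐ[k] k := ((AlgEquiv.ofBijective (Algebra.ofId k (R ⧸ M)) hbij).symm.toAlgHom).comp
    (Ideal.Quotient.mkₐ k M)
  have hM : M = RingHom.ker χ := by
    ext r
    rw [RingHom.mem_ker]
    show r ∈ M ↔ (AlgEquiv.ofBijective (Algebra.ofId k (R ⧸ M)) hbij).symm (Ideal.Quotient.mk M r) = 0
    rw [map_eq_zero_iff _ (AlgEquiv.injective _), Ideal.Quotient.eq_zero_iff_mem]
  have hco : ∀ (g : X ⟶ AffineSpace ι (Spec (CommRingCat.of k))),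
      g ≫ (AffineSpace ι (Spec (CommRingCat.of k)) ↘ Spec (CommRingCat.of k)) = str →
      ∃ t : ι → R, mor (k := k) t = hV.fromSpec ≫ g := fun g hg =>
    ⟨_, (eq_mor (k := k) (R := R) (hV.fromSpec ≫ g) (by rw [Category.assoc, hg]; exact hψ.symm)).symm⟩
  obtain ⟨tu, htu⟩ := hco u hu
  obtain ⟨tv, htv⟩ := hco v hv
  haveI : LocallyQuasiFinite (mor (k := k) tu) := by rw [htu]; infer_instance
  haveI : Flat (mor (k := k) tu) := by rw [htu]; infer_instance
  haveI : LocallyQuasiFinite (mor (k := k) tv) := by rw [htv]; infer_instance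
  haveI : Flat (mor (k := k) tv) := by rw [htv]; infer_instance
  obtain ⟨hgu, hdim⟩ := good_of_mor χ M hM tu
  obtain ⟨hgv, -⟩ := good_of_mor χ M hM tv
  haveI : LocCoh.IsCohenMacaulayLocalRing (Localization.AtPrime M) := by
    haveI := hCM x
    letI : Algebra R (X.presheaf.stalk (⟨x, hxV⟩ : V.1).1) :=
      TopCat.Presheaf.algebra_section_stalk X.presheaf (⟨x, hxV⟩ : V)
    haveI := hV.isLocalization_stalk ⟨x, hxV⟩
    have hp : (hV.primeIdealOf ⟨x, hxV⟩).asIdeal = M := by
      rw [show hV.primeIdealOf ⟨x, hxV⟩ = q from hV.fromSpec.isOpenEmbedding.injective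
        ((hV.fromSpec_primeIdealOf ⟨x, hxV⟩).trans hq.symm)]
    haveI : IsLocalization.AtPrime (X.presheaf.stalk (⟨x, hxV⟩ : V.1).1) M := by
      have := hV.isLocalization_stalk ⟨x, hxV⟩
      simp only [hp] at this
      exact this
    exact LC.Liaison.isCMLocal_of_ringEquiv
      (IsLocalization.algEquiv M.primeCompl (X.presheaf.stalk (⟨x, hxV⟩ : V.1).1) (Localization.AtPrime M)).toRingEquiv
  obtain ⟨m, w, h0, hl, hg, hs⟩ := exists_chain hgu hgv
  let S : Fin (m + 1) → Set ↥(Spec R) := fun j =>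
    {p | (mor (k := k) (w j)).QuasiFiniteAt p ∧ ((mor (k := k) (w j)).stalkMap p).hom.Flat}
  let D : (Spec R).Opens := ⟨⋂ j, S j, isOpen_iInter_of_finite fun j => isOpen_good_locus (k := k) (w j)⟩
  let e := hV.fromSpec.isoImage D
  let W : Fin (m + 1) → ((hV.fromSpec ''ᵁ D : X.Opens).toScheme ⟶ AffineSpace ι (Spec (CommRingCat.of k))) :=
    fun j => e.inv ≫ D.ι ≫ mor (k := k) (w j)
  have hι : e.inv ≫ D.ι ≫ hV.fromSpec = (hV.fromSpec ''ᵁ D).ι := by
    rw [Iso.inv_comp_eq]
    exact (Scheme.Hom.isoImage_hom_ι _ _).symm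
  refine ⟨hV.fromSpec ''ᵁ D, ⟨q, Set.mem_iInter.2 fun j => qf_flat_mor (hg j) M hM hdim, hq⟩, m, W,
    ?_, ?_, fun j => ⟨?_, ?_, ?_⟩, fun j => ?_⟩
  · show e.inv ≫ D.ι ≫ mor (k := k) (w 0) = _
    rw [h0, htu, ← hι]
    simp only [Category.assoc]
  · show e.inv ≫ D.ι ≫ mor (k := k) (w (Fin.last m)) = _
    rw [hl, htv, ← hι]
    simp only [Category.assoc]
  · haveI : LocallyOfFiniteType (mor (k := k) (w j)) := by
      haveI : LocallyOfFiniteType (mor (k := k) (w j) ≫ (AffineSpace ι (Spec (CommRingCat.of k)) ↘ Spec (CommRingCat.of k))) := by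
        rw [mor_over, hψ]; infer_instance
      exact locallyOfFiniteType_of_comp _ (AffineSpace ι (Spec (CommRingCat.of k)) ↘ Spec (CommRingCat.of k))
    haveI : LocallyQuasiFinite (D.ι ≫ mor (k := k) (w j)) := by
      rw [← Scheme.Hom.quasiFiniteLocus_eq_top_iff]
      refine eq_top_iff.2 fun p _ => ?_
      rw [Scheme.Hom.mem_quasiFiniteLocus, Scheme.Hom.quasiFiniteAt_comp_iff_of_isOpenImmersion]
      exact (Set.mem_iInter.1 p.2 j).1
    exact inferInstanceAs (LocallyQuasiFinite (e.inv ≫ D.ι ≫ mor (k := k) (w j)))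
  · haveI : Flat (D.ι ≫ mor (k := k) (w j)) := (Flat.iff_flat_stalkMap _).2 fun p => by
      rw [Scheme.Hom.stalkMap_comp]
      exact (FlatLocus.flat_comp_isIso _ _).2 (Set.mem_iInter.1 p.2 j).2
    exact inferInstanceAs (Flat (e.inv ≫ D.ι ≫ mor (k := k) (w j)))
  · show (e.inv ≫ D.ι ≫ mor (k := k) (w j)) ≫ _ = _
    rw [← hι]
    simp only [Category.assoc, mor_over, hψ]
  · obtain ⟨i, hi⟩ := hs j
    refine ⟨i, fun i' hi' => ?_⟩
    show (e.inv ≫ D.ι ≫ mor (k := k) (w j.castSucc)).appTop _ = (e.inv ≫ D.ι ≫ mor (k := k) (w j.succ)).appTop _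
    simp only [Scheme.Hom.comp_appTop, CommRingCat.comp_apply]
    exact congrArg _ (congrArg _ ((mor_coord _ _).trans ((congrArg _ (hi i' hi')).trans (mor_coord _ _).symm)))

end Groth.Agent.EtDlChain
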